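import Cfsg.Agent.OddHalf.SpN.OutTri
import Cfsg.Agent.Mrg.Omega.All.Basic
import Cfsg.Agent.Omega.All.SpN.Defs

-- merged: Cfsg.Agent.Omega.All.SpN.OffCore
section

/-!
# `Sp_2n(q)`, `q` even: the groups `Q_s`, `U_l` of a point `p` and a totally isotropic line `⟨p, q⟩` (helper165)

Coordinate-free: `Hyp p q w1 w2` (`p ⊥ q`, `w1`, `w2` dual to `p`, `q`).

* `ul p b c` (`b ⊥ p`) : `v ↦ v + (v,p) b + ((v,b) + c (v,p)) p`, the elements of `U_l`;
* `IsUL p A` : `A p = p`, `A` trivial on `p^⊥ / p`;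
* `IsQ p q A` : `A p = p`, `A q ∈ q + ⟨p⟩`, `A` trivial on `⟨p, q⟩^⊥ / ⟨p, q⟩` (the elements of `Q_s U_l`).
-/

set_option autoImplicit false
set_option linter.unusedSectionVars false

namespace Cfsg.Agent.Omega.All.SpN.Off

open Cfsg Cfsg.Agent.ClassicalGeometry.SympBasic Cfsg.Agent.ClassicalGeometry.SympAutSemi
open Cfsg.Agent.OddHalf.SpN Cfsg.Agent.OddHalf.SpN.Out
open scoped Matrix commutatorElement

variable {n : ℕ} {F : Type*} [Field F]

local notation "B" => sympForm n F

section basic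

theorem radd (A : Sy n F) (u v : Ix n → F) : rho n F A (u + v) = rho n F A u + rho n F A v := (SI.of_rho A).add u v

theorem rsub (A : Sy n F) (u v : Ix n → F) : rho n F A (u - v) = rho n F A u - rho n F A v := (SI.of_rho A).sub u v

theorem rsmul (A : Sy n F) (a : F) (v : Ix n → F) : rho n F A (a • v) = a • rho n F A v := (SI.of_rho A).smul a v

theorem rform (A : Sy n F) (u v : Ix n → F) : B (rho n F A u) (rho n F A v) = B u v := sympForm_rho A u v

theorem rmul (A C : Sy n F) (v : Ix n → F) : rho n F (A * C) v = rho n F A (rho n F C v) := by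
  rw [map_mul]; rfl

theorem rinv (A : Sy n F) (v : Ix n → F) : rho n F A (rho n F A⁻¹ v) = v := by
  rw [← rmul, mul_inv_cancel, map_one]; rfl

theorem rinv' (A : Sy n F) (v : Ix n → F) : rho n F A⁻¹ (rho n F A v) = v := by
  rw [← rmul, inv_mul_cancel, map_one]; rfl

theorem rext {A C : Sy n F} (h : ∀ v, rho n F A v = rho n F C v) : A = C := rho_injective (Equiv.ext h)

theorem rone (v : Ix n → F) : rho n F 1 v = v := by rw [map_one]; rfl

end basic

section chartwo

variable [CharP F 2]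

theorem fs (u v : Ix n → F) : B u v = B v u := by rw [sympForm_swap, CharTwo.neg_eq]

/-- the elements of `U_l` -/
def ul (p b : Ix n → F) (c : F) : Sy n F := transv p c * (transv p 1 * (transv b 1 * transv (p + b) 1))

theorem rho_ul {p b : Ix n → F} (h : B b p = 0) (c : F) (v : Ix n → F) :
    rho n F (ul p b c) v = v + B v p • b + (B v b + c * B v p) • p := by
  have h' : B p b = 0 := by rw [fs, h]
  rw [ul, rmul, rmul, rmul]
  simp only [rho_transv, sympForm_add_left, sympForm_add_right, sympForm_smul_left, sympForm_self, h, h']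
  ext k
  simp only [Pi.add_apply, Pi.smul_apply, smul_eq_mul]
  linear_combination (B v p * p k + B v b * b k) * (two0 : (2 : F) = 0)

/-- `A p = p` and `A` is trivial on `p^⊥ / p` -/
def IsUL (p : Ix n → F) (A : Sy n F) : Prop :=
  rho n F A p = p ∧ ∀ v, B v p = 0 → ∃ a : F, rho n F A v - v = a • p

/-- the elements of `Q_s U_l` -/
def IsQ (p q : Ix n → F) (A : Sy n F) : Prop :=
  rho n F A p = p ∧ (∃ a : F, rho n F A q - q = a • p) ∧
    ∀ v, B v p = 0 → B v q = 0 → ∃ a b : F, rho n F A v - v = a • p + b • q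

/-- the configuration -/
structure Hyp (p q w1 w2 : Ix n → F) : Prop where
  pq : B p q = 0
  pw1 : B p w1 = 1
  qw1 : B q w1 = 0
  pw2 : B p w2 = 0
  qw2 : B q w2 = 1

theorem conj_ul {p b : Ix n → F} (h : B b p = 0) (c : F) {A : Sy n F} (hA : rho n F A p = p) :
    A * ul p b c * A⁻¹ = ul p (rho n F A b) c := by
  have h1 : B (rho n F A b) p = 0 := by
    conv_lhs => rw [← hA]
    rw [rform, h]
  apply rext
  intro v
  rw [rmul, rmul, rho_ul h, rho_ul h1, radd, radd, rsmul, rsmul, rinv, hA]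
  have e : ∀ x, B (rho n F A⁻¹ v) x = B v (rho n F A x) := fun x => by
    rw [← rform A, rinv]
  rw [e, e, hA]

theorem ul_add {p b : Ix n → F} (h : B b p = 0) (l c : F) : ul p (b + l • p) c = ul p b c := by
  have h1 : B (b + l • p) p = 0 := by rw [sympForm_add_left, sympForm_smul_left, h, sympForm_self, mul_zero, add_zero]
  apply rext
  intro v
  rw [rho_ul h, rho_ul h1, sympForm_add_right, sympForm_smul_right]
  ext k
  simp only [Pi.add_apply, Pi.smul_apply, smul_eq_mul]
  linear_combination (B v p * l * p k) * (two0 : (2 : F) = 0)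

theorem ul_mul {p b b' : Ix n → F} (h : B b p = 0) (h' : B b' p = 0) (c c' : F) :
    ul p b c * ul p b' c' = ul p (b + b') (c + c' + B b b') := by
  have h1 : B (b + b') p = 0 := by rw [sympForm_add_left, h, h', add_zero]
  apply rext
  intro v
  rw [rmul, rho_ul h, rho_ul h', rho_ul h1]
  simp only [sympForm_add_left, sympForm_add_right, sympForm_smul_left, sympForm_self, h, h', fs p b, fs b' b]
  ext k
  simp only [Pi.add_apply, Pi.smul_apply, smul_eq_mul]
  ring

/-- the vector of an element of `U_l` -/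
def bb (w1 : Ix n → F) (A : Sy n F) : Ix n → F := rho n F A w1 - w1

variable {p q w1 w2 : Ix n → F}

theorem bb_perp {A : Sy n F} (hA : rho n F A p = p) : B (bb w1 A) p = 0 := by
  have h : B (rho n F A w1) p = B w1 p := by
    conv_lhs => rw [← hA]
    exact rform A w1 p
  rw [bb, sympForm_sub_left, h, sub_self]

/-- the elements of `U_l` are the `ul p b c` -/
theorem IsUL.eq (H : Hyp p q w1 w2) {A : Sy n F} (hA : IsUL p A) : A = ul p (bb w1 A) (B w1 (bb w1 A)) := by
  obtain ⟨h1, h2⟩ := hA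
  have hb := bb_perp (w1 := w1) h1
  -- on `p^⊥`
  have h3 : ∀ v, B v p = 0 → rho n F A v = v + B v (bb w1 A) • p := by
    intro v hv
    obtain ⟨a, ha⟩ := h2 v hv
    have h4 : rho n F A v = v + a • p := by rw [← ha]; abel
    have h5 : B (rho n F A v) (rho n F A w1) = B v w1 := rform A v w1
    have h6 : rho n F A w1 = w1 + bb w1 A := by rw [bb]; abel
    rw [h4, h6, sympForm_add_left, sympForm_smul_left, sympForm_add_right, sympForm_add_right, H.pw1,
      fs p (bb w1 A), hb] at h5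
    have h7 : a = B v (bb w1 A) := by
      linear_combination h5 - (B v (bb w1 A)) * (two0 : (2 : F) = 0)
    rw [h4, h7]
  apply rext
  intro v
  rw [rho_ul hb]
  have hpw : B w1 p = 1 := by rw [fs, H.pw1]
  have h4 : B (v - B v p • w1) p = 0 := by
    rw [sympForm_sub_left, sympForm_smul_left, hpw, mul_one, sub_self]
  have h5 : v = (v - B v p • w1) + B v p • w1 := by abel
  have h6 : rho n F A w1 = w1 + bb w1 A := by rw [bb]; abel
  calc rho n F A v = rho n F A ((v - B v p • w1) + B v p • w1) := by rw [← h5]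
    _ = (v - B v p • w1) + B (v - B v p • w1) (bb w1 A) • p + B v p • (w1 + bb w1 A) := by
      rw [radd, rsmul, h3 _ h4, h6]
    _ = _ := by
      rw [sympForm_sub_left, sympForm_smul_left]
      ext k
      simp only [Pi.add_apply, Pi.sub_apply, Pi.smul_apply, smul_eq_mul]
      linear_combination (- (B v p * B w1 (bb w1 A) * p k)) * (two0 : (2 : F) = 0)

theorem isUL_ul {b : Ix n → F} (h : B b p = 0) (c : F) : IsUL p (ul p b c) := by
  refine ⟨?_, fun v hv => ⟨B v b, ?_⟩⟩
  · rw [rho_ul h, sympForm_self, fs p b, h, mul_zero, add_zero, zero_smul, zero_smul, add_zero, add_zero]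
  · rw [rho_ul h, hv, zero_smul, mul_zero, add_zero, add_zero, add_sub_cancel_left]

theorem bb_ul (H : Hyp p q w1 w2) {b : Ix n → F} (h : B b p = 0) (c : F) :
    bb w1 (ul p b c) = b + (B w1 b + c) • p := by
  rw [bb, rho_ul h, fs w1 p, H.pw1, one_smul, mul_one]
  abel

theorem ul_inj (H : Hyp p q w1 w2) {b b' : Ix n → F} {c c' : F} (h : B b p = 0) (h' : B b' p = 0)
    (e : ul p b c = ul p b' c') : ∃ a : F, b' = b + a • p := by
  have h1 := congrArg (bb w1) e
  rw [bb_ul H h, bb_ul H h'] at h1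
  refine ⟨(B w1 b + c) - (B w1 b' + c'), ?_⟩
  rw [sub_smul]
  rw [← sub_eq_zero] at h1 ⊢
  rw [← neg_eq_zero, ← h1]
  abel

/-- `U_l` is abelian and of exponent two -/
theorem ul_comm {b b' : Ix n → F} (h : B b p = 0) (h' : B b' p = 0) (c c' : F) :
    ul p b c * ul p b' c' = ul p b' c' * ul p b c := by
  rw [ul_mul h h', ul_mul h' h, add_comm b b', fs b b', add_comm c c']

theorem ul_zero : ul p (0 : Ix n → F) 0 = 1 := by
  apply rext
  intro v
  rw [rho_ul (sympForm_zero_left p), rone, smul_zero, sympForm_zero_right, zero_mul, add_zero, add_zero, zero_smul,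
    add_zero]

theorem ul_sq {b : Ix n → F} (h : B b p = 0) (c : F) : ul p b c * ul p b c = 1 := by
  have e1 : b + b = 0 := by ext k; exact CharTwo.add_self_eq_zero _
  rw [ul_mul h h, e1, CharTwo.add_self_eq_zero, sympForm_self, add_zero, ul_zero]

theorem IsUL.comm (H : Hyp p q w1 w2) {A C : Sy n F} (hA : IsUL p A) (hC : IsUL p C) : A * C = C * A := by
  rw [hA.eq H, hC.eq H]
  exact ul_comm (bb_perp hA.1) (bb_perp hC.1) _ _

theorem IsUL.sq (H : Hyp p q w1 w2) {A : Sy n F} (hA : IsUL p A) : A * A = 1 := by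
  rw [hA.eq H]
  exact ul_sq (bb_perp hA.1) _

/-- `A` acts on `⟨p⟩` trivially: `A` and `U_l` -/
theorem comm_ul_iff (H : Hyp p q w1 w2) {A : Sy n F} (hA : rho n F A p = p) {b : Ix n → F} (h : B b p = 0) (c : F) :
    A * ul p b c = ul p b c * A ↔ ∃ a : F, rho n F A b - b = a • p := by
  have h1 : B (rho n F A b) p = 0 := by
    conv_lhs => rw [← hA]
    rw [rform, h]
  have e := conj_ul h c hA
  constructor
  · intro h2
    rw [h2, mul_inv_cancel_right] at e
    obtain ⟨a, ha⟩ := ul_inj H h h1 e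
    exact ⟨a, by rw [ha]; abel⟩
  · rintro ⟨a, ha⟩
    have h3 : rho n F A b = b + a • p := by rw [← ha]; abel
    rw [h3, ul_add h] at e
    exact mul_inv_eq_iff_eq_mul.1 e

/-- the elements of `C(U_l)` fixing `p` -/
theorem IsUL.of_comm (H : Hyp p q w1 w2) {A : Sy n F} (hA : rho n F A p = p)
    (h : ∀ b, B b p = 0 → A * ul p b 0 = ul p b 0 * A) : IsUL p A :=
  ⟨hA, fun b hb => (comm_ul_iff H hA hb 0).1 (h b hb)⟩

/-- a vector orthogonal to `⟨p, q⟩^⊥` -/
theorem inE_of_perp (H : Hyp p q w1 w2) {y : Ix n → F} (h : ∀ b, B b p = 0 → B b q = 0 → B b y = 0) :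
    y = B y w1 • p + B y w2 • q := by
  rw [← sub_eq_zero]
  apply eq_zero_of_forall_sympForm_left
  intro x
  have h1 : B (x - B x p • w1 - B x q • w2) p = 0 := by
    rw [sympForm_sub_left, sympForm_sub_left, sympForm_smul_left, sympForm_smul_left, fs w1 p, fs w2 p, H.pw1, H.pw2]
    ring
  have h2 : B (x - B x p • w1 - B x q • w2) q = 0 := by
    rw [sympForm_sub_left, sympForm_sub_left, sympForm_smul_left, sympForm_smul_left, fs w1 q, fs w2 q, H.qw1, H.qw2]
    ring
  have h3 := h _ h1 h2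
  rw [sympForm_sub_left, sympForm_sub_left, sympForm_smul_left, sympForm_smul_left] at h3
  rw [sympForm_sub_right, sympForm_add_right, sympForm_smul_right, sympForm_smul_right, fs y w1, fs y w2]
  linear_combination h3

/-- the part of a vector of `p^⊥` in `⟨p, q⟩^⊥` -/
theorem perp_split (H : Hyp p q w1 w2) {x : Ix n → F} (hx : B x p = 0) :
    B (x - B x q • w2) p = 0 ∧ B (x - B x q • w2) q = 0 := by
  constructor
  · rw [sympForm_sub_left, sympForm_smul_left, hx, fs w2 p, H.pw2]; ring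
  · rw [sympForm_sub_left, sympForm_smul_left, fs w2 q, H.qw2]; ring

namespace IsQ

variable {A C : Sy n F}

theorem form_p (hA : rho n F A p = p) (x : Ix n → F) : B (rho n F A x) p = B x p := by
  conv_lhs => rw [← hA]
  exact rform A x p

theorem form_q (hA : IsQ p q A) {x : Ix n → F} (hx : B x p = 0) : B (rho n F A x) q = B x q := by
  obtain ⟨a, ha⟩ := hA.2.1
  have h1 : q = rho n F A (q - a • p) := by
    rw [rsub, rsmul, hA.1, ← ha]; abel
  conv_lhs => rw [h1]
  rw [rform, sympForm_sub_right, sympForm_smul_right, hx]; ring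

/-- `A x - x ∈ ⟨p, q⟩^⊥` for `x ∈ p^⊥` -/
theorem sub_perp (hA : IsQ p q A) {x : Ix n → F} (hx : B x p = 0) :
    B (rho n F A x - x) p = 0 ∧ B (rho n F A x - x) q = 0 := by
  constructor
  · rw [sympForm_sub_left, form_p hA.1, sub_self]
  · rw [sympForm_sub_left, hA.form_q hx, sub_self]

/-- the `q`-coordinate of `A y - y`, `y ∈ ⟨p, q⟩^⊥` -/
theorem coord (H : Hyp p q w1 w2) (hA : IsQ p q A) {y : Ix n → F} (h1 : B y p = 0) (h2 : B y q = 0) :
    B (rho n F A y - y) w2 = B y (rho n F A w2 - w2) := by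
  obtain ⟨a, b, hab⟩ := hA.2.2 y h1 h2
  have hw : B (w2 : Ix n → F) p = 0 := by rw [fs, H.pw2]
  obtain ⟨h3, h4⟩ := hA.sub_perp hw
  have h5 := rform A y w2
  have e1 : rho n F A y = y + (rho n F A y - y) := by abel
  have e2 : rho n F A w2 = w2 + (rho n F A w2 - w2) := by abel
  rw [e1, e2, sympForm_add_left, sympForm_add_right, sympForm_add_right] at h5
  have h6 : B (rho n F A y - y) (rho n F A w2 - w2) = 0 := by
    rw [hab, sympForm_add_left, sympForm_smul_left, sympForm_smul_left, fs p, fs q, h3, h4]; ring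
  rw [h6] at h5
  linear_combination h5 - (B y (rho n F A w2 - w2)) * (two0 : (2 : F) = 0)

/-- **fix**: an element of `Q_s U_l` centralising an element of `U_l` outside `p^⊥ ∩ q^⊥` centralises `U_l` -/
theorem isUL_of_fix (hA : IsQ p q A) {b : Ix n → F} (hb : B b p = 0) (hbq : B b q ≠ 0)
    (h : ∃ a : F, rho n F A b - b = a • p) : IsUL p A := by
  obtain ⟨l, hl⟩ := h
  have hAb : rho n F A b = b + l • p := by rw [← hl]; abel
  -- on `⟨p, q⟩^⊥`
  have key : ∀ x, B x p = 0 → B x q = 0 → ∃ a : F, rho n F A x - x = a • p := by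
    intro x h1 h2
    obtain ⟨a, c, hac⟩ := hA.2.2 x h1 h2
    have h3 := rform A x b
    have h4 : B (rho n F A x) p = 0 := by rw [form_p hA.1, h1]
    rw [hAb, sympForm_add_right, sympForm_smul_right, h4, mul_zero, add_zero] at h3
    have h5 : B (rho n F A x - x) b = 0 := by rw [sympForm_sub_left, h3, sub_self]
    rw [hac, sympForm_add_left, sympForm_smul_left, sympForm_smul_left, fs p b, hb, fs q b, mul_zero, zero_add] at h5
    have h6 : c = 0 := (mul_eq_zero.1 h5).resolve_right hbq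
    exact ⟨a, by rw [hac, h6, zero_smul, add_zero]⟩
  refine ⟨hA.1, fun v hv => ?_⟩
  have h1 : B (v - (B v q / B b q) • b) p = 0 := by
    rw [sympForm_sub_left, sympForm_smul_left, hv, hb]; ring
  have h2 : B (v - (B v q / B b q) • b) q = 0 := by
    rw [sympForm_sub_left, sympForm_smul_left, div_mul_cancel₀ _ hbq, sub_self]
  obtain ⟨a, ha⟩ := key _ h1 h2
  refine ⟨a + (B v q / B b q) * l, ?_⟩
  rw [rsub, rsmul, hAb] at ha
  have e : rho n F A v - v = (rho n F A v - (B v q / B b q) • (b + l • p) - (v - (B v q / B b q) • b)) +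
      ((B v q / B b q) * l) • p := by
    rw [smul_add, smul_smul]; abel
  rw [e, ha, add_smul]

/-- the commutators of two elements of `Q_s U_l` -/
theorem comm_isUL (H : Hyp p q w1 w2) (hA : IsQ p q A) (hC : IsQ p q C) :
    IsUL p (A * C * A⁻¹ * C⁻¹) ∧ rho n F (A * C * A⁻¹ * C⁻¹) q = q := by
  have hw : B (w2 : Ix n → F) p = 0 := by rw [fs, H.pw2]
  -- the commutator on `x`
  have hk : ∀ x, rho n F (A * C * A⁻¹ * C⁻¹) (rho n F C (rho n F A x)) = rho n F A (rho n F C x) := by
    intro x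
    rw [← rmul, ← rmul, ← rmul]
    congr 2
    group
  have hCA : rho n F C (rho n F A p) = p := by rw [hA.1, hC.1]
  have hAC : rho n F A (rho n F C p) = p := by rw [hC.1, hA.1]
  refine ⟨⟨?_, fun v hv => ?_⟩, ?_⟩
  · have := hk p
    rwa [hCA, hAC] at this
  · -- `v = C A x`
    set x := rho n F A⁻¹ (rho n F C⁻¹ v) with hx
    have hv' : v = rho n F C (rho n F A x) := by rw [hx, rinv, rinv]
    have hxp : B x p = 0 := by
      have : B v p = B x p := by
        rw [hv', form_p hC.1, form_p hA.1]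
      rw [← this, hv]
    have h1 := hA.sub_perp hxp
    have h2 := hC.sub_perp hxp
    obtain ⟨a, b, hab⟩ := hA.2.2 _ h2.1 h2.2
    obtain ⟨a', b', hab'⟩ := hC.2.2 _ h1.1 h1.2
    -- `A C x - C A x`
    have hd : rho n F A (rho n F C x) - rho n F C (rho n F A x) = (a - a') • p + (b - b') • q := by
      have e1 : rho n F A (rho n F C x) = rho n F A (rho n F C x - x) + rho n F A x := by
        rw [← radd]; congr 1; abel
      have e2 : rho n F C (rho n F A x) = rho n F C (rho n F A x - x) + rho n F C x := by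
        rw [← radd]; congr 1; abel
      have e3 : rho n F A (rho n F C x) - rho n F C (rho n F A x) =
          (rho n F A (rho n F C x - x) - (rho n F C x - x)) - (rho n F C (rho n F A x - x) - (rho n F A x - x)) := by
        rw [e1, e2]; abel
      rw [e3, hab, hab', sub_smul, sub_smul]
      abel
    -- the coordinates
    have k1 : b = B (rho n F C x - x) (rho n F A w2 - w2) := by
      rw [← hA.coord H h2.1 h2.2, hab, sympForm_add_left, sympForm_smul_left, sympForm_smul_left, H.pw2, H.qw2]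
      ring
    have k2 : b' = B (rho n F A x - x) (rho n F C w2 - w2) := by
      rw [← hC.coord H h1.1 h1.2, hab', sympForm_add_left, sympForm_smul_left, sympForm_smul_left, H.pw2, H.qw2]
      ring
    obtain ⟨s1, s2⟩ := perp_split H hxp
    have key : ∀ E D : Sy n F, IsQ p q E → IsQ p q D →
        B (rho n F E x - x) (rho n F D w2 - w2) = B x q * B (rho n F E w2 - w2) (rho n F D w2 - w2) := by
      intro E D hE hD
      obtain ⟨c, d, hcd⟩ := hE.2.2 _ s1 s2
      obtain ⟨g1, g2⟩ := hD.sub_perp hw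
      have e : rho n F E x - x = (rho n F E (x - B x q • w2) - (x - B x q • w2)) + B x q • (rho n F E w2 - w2) := by
        rw [rsub, rsmul, smul_sub]; abel
      rw [e, sympForm_add_left, sympForm_smul_left, hcd, sympForm_add_left, sympForm_smul_left, sympForm_smul_left,
        fs p, fs q, g1, g2]
      ring
    have k3 : b = b' := by
      rw [k1, k2, key C A hC hA, key A C hA hC, fs (rho n F C w2 - w2)]
    refine ⟨a - a', ?_⟩
    have e : rho n F (A * C * A⁻¹ * C⁻¹) v = rho n F A (rho n F C x) := by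
      conv_lhs => rw [hv']
      exact hk x
    rw [e]
    conv_lhs => rw [hv']
    rw [hd, k3, sub_self, zero_smul, add_zero]
  · obtain ⟨a, ha⟩ := hA.2.1
    obtain ⟨c, hc⟩ := hC.2.1
    have e1 : rho n F A q = q + a • p := by rw [← ha]; abel
    have e2 : rho n F C q = q + c • p := by rw [← hc]; abel
    have e3 : rho n F C (rho n F A q) = q + (a + c) • p := by
      rw [e1, radd, rsmul, hC.1, e2, add_smul]; abel
    have e4 : rho n F A (rho n F C q) = q + (a + c) • p := by
      rw [e2, radd, rsmul, hA.1, e1, add_smul]; abel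
    have e5 := hk q
    rw [e3, e4, radd, rsmul] at e5
    have e6 : rho n F (A * C * A⁻¹ * C⁻¹) p = p := by
      have := hk p
      rwa [hCA, hAC] at this
    rw [e6] at e5
    exact add_right_cancel e5

/-- **comm**: `[p^⊥ ∩ q^⊥, Q_s U_l] ≤ X_s` -/
theorem comm_mem (H : Hyp p q w1 w2) (hA : IsUL p A) (hAq : rho n F A q = q) (hC : IsQ p q C) :
    ∃ t : F, A * C * A⁻¹ * C⁻¹ = ul p (t • q) 0 := by
  have hb := bb_perp (w1 := w1) hA.1
  have hA' := hA.eq H
  have hp0 : B p w1 ≠ 0 := by rw [H.pw1]; exact one_ne_zero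
  have hbq : B (bb w1 A) q = 0 := by
    have h1 := hAq
    rw [hA', rho_ul hb, fs q p, H.pq, zero_smul, add_zero, mul_zero, add_zero, add_eq_left] at h1
    have h2 := congrArg (fun y => B y w1) h1
    simp only [sympForm_smul_left, sympForm_zero_left, H.pw1, mul_one] at h2
    rw [fs]; exact h2
  obtain ⟨a, b, hab⟩ := hC.2.2 _ hb hbq
  have h1 : A * C * A⁻¹ * C⁻¹ = A * (C * A * C⁻¹)⁻¹ := by group
  have hCb : B (rho n F C (bb w1 A)) p = 0 := by rw [form_p hC.1, hb]
  have h2 : C * A * C⁻¹ = ul p (rho n F C (bb w1 A)) (B w1 (bb w1 A)) := by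
    conv_lhs => rw [hA']
    exact conj_ul hb _ hC.1
  have h3 : (C * A * C⁻¹)⁻¹ = C * A * C⁻¹ := by
    rw [h2]
    exact inv_eq_of_mul_eq_one_right (ul_sq hCb _)
  refine ⟨b, ?_⟩
  rw [h1, h3, h2]
  have h0 : ∀ D : Sy n F, A * D = ul p (bb w1 A) (B w1 (bb w1 A)) * D := fun D => by rw [← hA']
  rw [h0, ul_mul hb hCb]
  have h4 : rho n F C (bb w1 A) = bb w1 A + (a • p + b • q) := by rw [← hab]; abel
  have h5 : bb w1 A + rho n F C (bb w1 A) = b • q + a • p := by
    rw [h4]
    ext k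
    simp only [Pi.add_apply, Pi.smul_apply, smul_eq_mul]
    linear_combination (bb w1 A k) * (two0 : (2 : F) = 0)
  have h6 : B (bb w1 A) (rho n F C (bb w1 A)) = 0 := by
    rw [h4, sympForm_add_right, sympForm_add_right, sympForm_self, sympForm_smul_right, sympForm_smul_right, hb, hbq]
    ring
  have h7 : B (b • q : Ix n → F) p = 0 := by rw [sympForm_smul_left, fs q, H.pq, mul_zero]
  rw [h5, h6, CharTwo.add_self_eq_zero, add_zero, ul_add h7]

/-- an element of `Q_s U_l` centralising `p^⊥ ∩ q^⊥` acts on `p^⊥ / p` as a transvection -/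
theorem trans_of (H : Hyp p q w1 w2) (hC : IsQ p q C)
    (hJ : ∀ b, B b p = 0 → B b q = 0 → ∃ a : F, rho n F C b - b = a • p) {x : Ix n → F} (hx : B x p = 0) :
    ∃ a : F, rho n F C x - x = a • p + (B (rho n F C w2 - w2) w2 * B x q) • q := by
  have hy := inE_of_perp H (y := rho n F C w2 - w2) fun b h1 h2 => by
    rw [← hC.coord H h1 h2]
    obtain ⟨a, ha⟩ := hJ b h1 h2
    rw [ha, sympForm_smul_left, H.pw2, mul_zero]
  obtain ⟨s1, s2⟩ := perp_split H hx
  obtain ⟨a, ha⟩ := hJ _ s1 s2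
  have e : rho n F C x - x = (rho n F C (x - B x q • w2) - (x - B x q • w2)) + B x q • (rho n F C w2 - w2) := by
    rw [rsub, rsmul, smul_sub]; abel
  refine ⟨a + B x q * B (rho n F C w2 - w2) w1, ?_⟩
  rw [e, ha]
  conv_lhs => rw [hy]
  rw [smul_add, smul_smul, smul_smul, add_smul, mul_comm (B (rho n F C w2 - w2) w2)]
  abel

/-- **triv** -/
theorem triv (H : Hyp p q w1 w2) (hC : IsQ p q C)
    (hJ : ∀ b, B b p = 0 → B b q = 0 → ∃ a : F, rho n F C b - b = a • p) {s : Sy n F} (hs : rho n F s p = p)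
    (hs' : ∃ a : F, rho n F s q - q = a • p) : IsUL p (s * C * s⁻¹ * C⁻¹) := by
  obtain ⟨d, hd⟩ := hs'
  have hsq : rho n F s q = q + d • p := by rw [← hd]; abel
  have hsi : ∀ A : Sy n F, rho n F A p = p → rho n F A⁻¹ p = p := by
    intro A hA
    conv_lhs => rw [← hA]
    exact rinv' A p
  refine ⟨?_, fun x hx => ?_⟩
  · rw [rmul, rmul, rmul, hsi C hC.1, hsi s hs, hC.1, hs]
  · have hz : B (rho n F C⁻¹ x) p = 0 := by rw [form_p (hsi C hC.1), hx]
    have hz' : B (rho n F s⁻¹ (rho n F C⁻¹ x)) p = 0 := by rw [form_p (hsi s hs), hz]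
    obtain ⟨a, ha⟩ := hC.trans_of H hJ hz
    obtain ⟨b, hb⟩ := hC.trans_of H hJ hz'
    have h1 : B (rho n F s⁻¹ (rho n F C⁻¹ x)) q = B (rho n F C⁻¹ x) q := by
      have h2 := rform s (rho n F s⁻¹ (rho n F C⁻¹ x)) q
      rw [rinv, hsq, sympForm_add_right, sympForm_smul_right, hz, mul_zero, add_zero] at h2
      exact h2.symm
    rw [rinv] at ha
    rw [h1] at hb
    set c := B (rho n F C w2 - w2) w2
    set z := rho n F C⁻¹ x
    have h3 : rho n F C (rho n F s⁻¹ z) = rho n F s⁻¹ z + (b • p + (c * B z q) • q) := by rw [← hb]; abel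
    refine ⟨b + c * B z q * d - a, ?_⟩
    rw [rmul, rmul, rmul, h3, radd, radd, rsmul, rsmul, rinv, hs, hsq]
    have h4 : x = z + (a • p + (c * B z q) • q) := by rw [← ha]; abel
    conv_lhs => rw [h4]
    rw [sub_smul, add_smul, smul_add, smul_smul]
    abel

/-- the elements of `Q_s` -/
theorem isQ_ulq (H : Hyp p q w1 w2) {y : Ix n → F} (h1 : B y p = 0) (h2 : B y q = 0) (c : F) : IsQ p q (ul q y c) := by
  refine ⟨?_, ⟨0, ?_⟩, fun v h3 h4 => ⟨0, B v y, ?_⟩⟩
  · rw [rho_ul h2, H.pq, fs p y, h1, zero_smul, mul_zero, add_zero, add_zero, zero_smul, add_zero]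
  · rw [rho_ul h2, sympForm_self, fs q y, h2, zero_smul, mul_zero, add_zero, add_zero, zero_smul, add_zero, sub_self,
      zero_smul]
  · rw [rho_ul h2, h4, zero_smul, mul_zero, add_zero, add_zero, add_sub_cancel_left, zero_smul, zero_add]

/-- a vector of `p^⊥` fixed by `Q_s` modulo `p` is orthogonal to `⟨p, q⟩^⊥` -/
theorem inE_of_fix (H : Hyp p q w1 w2) {b : Ix n → F} (h : ∀ s, IsQ p q s → ∃ a : F, rho n F s b - b = a • p) :
    B b q = 0 ∧ ∀ y, B y p = 0 → B y q = 0 → B b y = 0 := by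
  have hz : ∀ (a c : F), a • p = c • q → c = 0 := by
    intro a c e
    have := congrArg (fun z => B z w2) e
    simp only [sympForm_smul_left, H.pw2, H.qw2] at this
    rw [mul_zero, mul_one] at this
    exact this.symm
  have h1 : B b q = 0 := by
    have h0 : B (0 : Ix n → F) p = 0 := sympForm_zero_left p
    have h0' : B (0 : Ix n → F) q = 0 := sympForm_zero_left q
    obtain ⟨a, ha⟩ := h _ (isQ_ulq H h0 h0' 1)
    rw [rho_ul h0', smul_zero, sympForm_zero_right, zero_add, one_mul, add_zero, add_sub_cancel_left] at ha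
    exact hz _ _ ha.symm
  refine ⟨h1, fun y h2 h3 => ?_⟩
  obtain ⟨a, ha⟩ := h _ (isQ_ulq H h2 h3 0)
  rw [rho_ul h3, h1, zero_smul, zero_mul, add_zero, add_zero, add_sub_cancel_left] at ha
  exact hz _ _ ha.symm

omit A C in
theorem fin_key (H : Hyp p q w1 w2) {b : Ix n → F} (hb : B b p = 0) (hbq : B b q = 0) {c c' d : F} (hc0 : c' ≠ 0)
    {s' : Sy n F} (h1 : rho n F s' p = p) (hd : rho n F s' q = q + d • p)
    (hcm : s' * (ul p b c * transv q c') = ul p b c * transv q c' * s') :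
    ∃ a : F, rho n F s' b - b = a • p := by
  have hpq' : B q p = 0 := by rw [fs, H.pq]
  have h2 : s' * (ul p b c * transv q c') * s'⁻¹ = ul p b c * transv q c' := by rw [hcm, mul_inv_cancel_right]
  have h3 : s' * ul p b c * s'⁻¹ = ul p (rho n F s' b) c := conj_ul hb c h1
  have hb'p : B (rho n F s' b) p = 0 := by rw [form_p h1, hb]
  have hb'q : B (rho n F s' b) q = 0 := by
    have e1 : q = rho n F s' (q - d • p) := by rw [rsub, rsmul, h1, hd]; abel
    conv_lhs => rw [e1]
    rw [rform, sympForm_sub_right, sympForm_smul_right, hb, hbq]; ring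
  have h4 : ∀ z, rho n F (s' * transv q c' * s'⁻¹) z = z + (c' * B z (q + d • p)) • (q + d • p) := by
    intro z
    rw [rmul, rmul, rho_transv, radd, rsmul, rinv, hd]
    congr 3
    rw [← hd]
    have := rform s' (rho n F s'⁻¹ z) q
    rw [rinv] at this
    exact this.symm
  have h5 : s' * (ul p b c * transv q c') * s'⁻¹ = (s' * ul p b c * s'⁻¹) * (s' * transv q c' * s'⁻¹) := by group
  rw [h2, h3] at h5
  have h6 : rho n F (ul p b c * transv q c') w1 = rho n F (ul p (rho n F s' b) c * (s' * transv q c' * s'⁻¹)) w1 := by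
    rw [← h5]
  rw [rmul, rmul] at h6
  have hw1p : B w1 p = 1 := by rw [fs, H.pw1]
  have hw1q : B w1 q = 0 := by rw [fs, H.qw1]
  have e1 : B w1 (q + d • p) = d := by
    rw [sympForm_add_right, sympForm_smul_right, hw1q, hw1p]; ring
  rw [rho_transv, h4, hw1q, mul_zero, zero_smul, add_zero, e1, rho_ul hb, rho_ul hb'p, hw1p] at h6
  have e2 : B (w1 + (c' * d) • (q + d • p)) p = 1 := by
    rw [sympForm_add_left, sympForm_smul_left, sympForm_add_left, sympForm_smul_left, sympForm_self, hpq', hw1p]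
    ring
  have e3 : B (w1 + (c' * d) • (q + d • p)) (rho n F s' b) = B w1 (rho n F s' b) := by
    rw [sympForm_add_left, sympForm_smul_left, sympForm_add_left, sympForm_smul_left, fs q, fs p, hb'p, hb'q]
    ring
  rw [e2, e3] at h6
  -- `d = 0`
  have h7 := congrArg (fun z => B z w1) h6
  simp only [sympForm_add_left, sympForm_smul_left, sympForm_self, H.pw1, H.qw1, fs b w1,
    fs (rho n F s' b) w1] at h7
  have h8 : c' * d * d = 0 := by
    linear_combination -h7 + (B w1 b - B w1 (rho n F s' b)) * (two0 : (2 : F) = 0)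
  have hd0 : d = 0 := by
    rcases mul_eq_zero.1 h8 with h9 | h9
    · exact (mul_eq_zero.1 h9).resolve_left hc0
    · exact h9
  rw [hd0, mul_zero, zero_smul, add_zero] at h6
  refine ⟨B w1 b - B w1 (rho n F s' b), ?_⟩
  ext k
  have h9 := congrFun h6 k
  simp only [Pi.add_apply, Pi.sub_apply, Pi.smul_apply, smul_eq_mul] at h9 ⊢
  linear_combination -h9

/-- **fin** -/
theorem fin_core (H : Hyp p q w1 w2) {x : Sy n F} (hx : IsQ p q x)
    (hJ : ∀ b, B b p = 0 → B b q = 0 → ∃ a : F, rho n F x b - b = a • p) (hxx : x * x = 1) (hnot : ¬ IsUL p x)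
    (hS : ∀ s, IsQ p q s → ∃ u, IsUL p u ∧ u⁻¹ * s * x = x * (u⁻¹ * s)) {v : Ix n → F} (hv : B v p = 0)
    (hv' : B v q = 0) : rho n F x v = v := by
  obtain ⟨c', hc'⟩ : ∃ c', c' = B (rho n F x w2 - w2) w2 := ⟨_, rfl⟩
  have htr : ∀ z, B z p = 0 → ∃ a : F, rho n F x z - z = a • p + (c' * B z q) • q := by
    intro z hz
    rw [hc']; exact hx.trans_of H hJ hz
  have hpq' : B q p = 0 := by rw [fs, H.pq]
  obtain ⟨l, hl⟩ := hx.2.1
  have hxq : rho n F x q = q + l • p := by rw [← hl]; abel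
  have hTv : ∀ z, rho n F (transv q c') z = z + (c' * B z q) • q := fun z => rho_transv q z c'
  obtain ⟨T, hT⟩ : ∃ T : Sy n F, T = transv q c' := ⟨_, rfl⟩
  rw [← hT] at hTv
  have hTT : T * T = 1 := by
    apply rext
    intro z
    rw [rmul, hTv, hTv, sympForm_add_left, sympForm_smul_left, sympForm_self, rone]
    ext k
    simp only [Pi.add_apply, Pi.smul_apply, smul_eq_mul]
    linear_combination (c' * B z q * q k) * (two0 : (2 : F) = 0)
  obtain ⟨w, hw⟩ : ∃ w : Sy n F, w = x * T := ⟨_, rfl⟩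
  have hTp : rho n F T p = p := by rw [hTv, H.pq, mul_zero, zero_smul, add_zero]
  have hwUL : IsUL p w := by
    refine ⟨by rw [hw, rmul, hTp, hx.1], fun z hz => ?_⟩
    obtain ⟨a, ha⟩ := htr z hz
    have ha' : rho n F x z = z + (a • p + (c' * B z q) • q) := by rw [← ha]; abel
    refine ⟨a + c' * B z q * l, ?_⟩
    rw [hw, rmul, hTv, radd, rsmul, hxq, ha']
    ext k
    simp only [Pi.add_apply, Pi.sub_apply, Pi.smul_apply, smul_eq_mul]
    linear_combination (c' * B z q * q k) * (two0 : (2 : F) = 0)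
  have hxw : x = w * T := by rw [hw, mul_assoc, hTT, mul_one]
  obtain ⟨b, c, hb, hweq⟩ : ∃ b c, B b p = 0 ∧ w = ul p b c := ⟨_, _, bb_perp hwUL.1, hwUL.eq H⟩
  have hc0 : c' ≠ 0 := by
    intro h0
    apply hnot
    have : x = w := by
      apply rext
      intro z
      rw [hxw, rmul, hTv, h0, zero_mul, zero_smul, add_zero]
    rw [this]; exact hwUL
  -- `w` and `T` commute
  have hcomm : T * w = w * T := by
    have h1 : w * T * (w * T) = 1 := by rw [← hxw]; exact hxx
    have h2 : w * w = 1 := hwUL.sq H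
    have h3 : w * T = T⁻¹ * w⁻¹ := by rw [← mul_inv_rev]; exact eq_inv_of_mul_eq_one_left h1
    rw [h3, inv_eq_of_mul_eq_one_right hTT, inv_eq_of_mul_eq_one_right h2]
  have hbq : B b q = 0 := by
    rw [hweq] at hcomm
    obtain ⟨a, ha⟩ := (comm_ul_iff H hTp hb c).1 hcomm
    rw [hTv, add_sub_cancel_left] at ha
    have := congrArg (fun z => B z w2) ha
    simp only [sympForm_smul_left, H.pw2, H.qw2] at this
    rw [mul_zero, mul_one] at this
    exact (mul_eq_zero.1 this).resolve_left hc0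
  -- `b` is fixed modulo `p`
  have key : ∀ s, IsQ p q s → ∃ a : F, rho n F s b - b = a • p := by
    intro s hs
    obtain ⟨u, hu, hcm⟩ := hS s hs
    have hui : rho n F u⁻¹ p = p := by
      conv_lhs => rw [← hu.1]
      exact rinv' u p
    have huinv : u⁻¹ = u := inv_eq_of_mul_eq_one_right (hu.sq H)
    have h1 : rho n F (u⁻¹ * s) p = p := by rw [rmul, hs.1, hui]
    obtain ⟨d, hd⟩ : ∃ d : F, rho n F (u⁻¹ * s) q = q + d • p := by
      obtain ⟨a, ha⟩ := hs.2.1
      obtain ⟨a', ha'⟩ := hu.2 q hpq'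
      have e1 : rho n F s q = q + a • p := by rw [← ha]; abel
      have e2 : rho n F u q = q + a' • p := by rw [← ha']; abel
      exact ⟨a' + a, by rw [rmul, e1, huinv, radd, rsmul, hu.1, e2, add_smul]; abel⟩
    rw [hxw, hweq, hT] at hcm
    obtain ⟨m, hm⟩ := fin_key H hb hbq hc0 h1 hd hcm
    obtain ⟨a', ha'⟩ := hu.2 b hb
    have e5 : s = u * (u⁻¹ * s) := by rw [mul_inv_cancel_left]
    have e6 : rho n F u b = b + a' • p := by rw [← ha']; abel
    have e7 : rho n F (u⁻¹ * s) b = b + m • p := by rw [← hm]; abel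
    refine ⟨a' + m, ?_⟩
    rw [e5, rmul, e7, radd, rsmul, hu.1, e6, add_smul]
    abel
  obtain ⟨-, hE⟩ := inE_of_fix H key
  rw [hxw, rmul, hTv, hv', mul_zero, zero_smul, add_zero, hweq]
  rw [rho_ul hb, hv, fs v b, hE v hv hv', mul_zero, add_zero, zero_smul, zero_smul, add_zero, add_zero]

end IsQ

end chartwo

end Cfsg.Agent.Omega.All.SpN.Off

end

-- merged: Cfsg.Agent.Mrg.Omega.All.SpN.Off
section

/-!
# THEOREM F1-h1 (OMEGA #14479), `Sp_2n(q)`: the fields of `Offer` (helper165)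

`p = 1`, `q = 2`, inside `Sp_2n(F)`, `n ≥ 3`, `char F = 2`:

* `offer` : `Offer Up QSL UL (UL ⊓ QS) X12 US`;
* `lcs` : `⁅⁅QSL, QSL⁆, QSL⁆ = X12`;
* `cen` : `QSL ⊓ C(UL) ≤ UL`.
-/

set_option autoImplicit false
set_option linter.unusedSectionVars false

namespace Cfsg.Agent.Omega.All.SpN.Off

open Cfsg Cfsg.Agent.ClassicalGeometry.SympBasic Cfsg.Agent.ClassicalGeometry.SympAutSemi
open Cfsg.Agent.OddHalf.SpN Cfsg.Agent.OddHalf.SpN.Out
open Cfsg.Agent.Omega.All.HOne (Offer)
open Cfsg.Agent.Omega.All.SpN (QS US UL QSL InE Prp InL mem_QS mem_US mem_UL mem_QSL)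
open scoped Matrix commutatorElement

variable {n : ℕ} {F : Type*} [Field F] [CharP F 2]

local notation "B" => sympForm n F

theorem hyp {p q : Ix n} (h : Dj p q) : Hyp (be n F p) (be n F q) (be n F (neg p)) (be n F (neg q)) := by
  have h1 : neg q ≠ p := fun e => h.2 e.symm
  have h2 : neg p ≠ q := fun e => h.2 (by rw [← e, neg_neg])
  constructor
  · rw [form_be, be_apply, if_neg h1]
  · rw [form_be, neg_neg, be_apply, if_pos rfl]
  · rw [form_be, neg_neg, be_apply, if_neg h.1]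
  · rw [form_be, neg_neg, be_apply, if_neg h.1.symm]
  · rw [form_be, neg_neg, be_apply, if_pos rfl]

theorem prp_iff {p q : Ix n} {v : Ix n → F} : Prp p q v ↔ B v (be n F p) = 0 ∧ B v (be n F q) = 0 := by
  rw [form_be, form_be]; rfl

section groups

variable [Finite F]

theorem mem_UL_iff {p : Ix n} {A : Sy n F} : A ∈ UL p ↔ IsUL (be n F p) A := by
  rw [mem_UL]
  refine and_congr Iff.rfl (forall_congr' fun v => ?_)
  rw [form_be]; rfl

theorem mem_QSL_iff {p q : Ix n} {A : Sy n F} : A ∈ QSL p q ↔ IsQ (be n F p) (be n F q) A := by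
  rw [mem_QSL]
  refine and_congr Iff.rfl (and_congr Iff.rfl ⟨fun h v h1 h2 => h v (prp_iff.2 ⟨h1, h2⟩), fun h v hv => ?_⟩)
  exact h v (prp_iff.1 hv).1 (prp_iff.1 hv).2

theorem mem_J_iff {p q : Ix n} {A : Sy n F} :
    A ∈ UL p ⊓ QS p q ↔ IsUL (be n F p) A ∧ rho n F A (be n F q) = be n F q := by
  rw [Subgroup.mem_inf, mem_UL_iff, mem_QS]
  constructor
  · exact fun h => ⟨h.1, h.2.2.1⟩
  · refine fun h => ⟨h.1, h.1.1, h.2, fun v hv => ?_⟩
    obtain ⟨a, ha⟩ := h.1.2 v (prp_iff.1 hv).1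
    exact ⟨a, 0, by rw [ha, zero_smul, add_zero]⟩

variable {p q : Ix n}

/-- elements of `C(J)` -/
theorem of_cJ (hd : Dj p q) {A : Sy n F} (hA : A ∈ QSL p q)
    (h : A ∈ Subgroup.centralizer ((UL p ⊓ QS p q : Subgroup (Sy n F)) : Set (Sy n F))) (b : Ix n → F)
    (h1 : B b (be n F p) = 0) (h2 : B b (be n F q) = 0) : ∃ a : F, rho n F A b - b = a • be n F p := by
  have hb : ul (be n F p) b 0 ∈ UL p ⊓ QS p q := by
    rw [mem_J_iff]
    refine ⟨isUL_ul h1 0, ?_⟩
    rw [rho_ul h1, fs (be n F q) (be n F p), (hyp (F := F) hd).pq, fs (be n F q) b, h2, zero_smul, mul_zero, add_zero,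
      add_zero, zero_smul, add_zero]
  have := (Subgroup.mem_centralizer_iff.1 h) _ hb
  exact (comm_ul_iff (hyp hd) (mem_QSL_iff.1 hA).1 h1 0).1 this.symm

/-- `C_{Q_s U_l}(U_l) ≤ U_l` -/
theorem cen (hd : Dj p q) : QSL p q ⊓ Subgroup.centralizer ((UL p : Subgroup (Sy n F)) : Set (Sy n F)) ≤ UL p := by
  rintro A ⟨hA, hC⟩
  rw [mem_UL_iff]
  refine IsUL.of_comm (hyp hd) (mem_QSL_iff.1 hA).1 fun b hb => ?_
  exact (Subgroup.mem_centralizer_iff.1 hC _ (mem_UL_iff.2 (isUL_ul hb 0))).symm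

/-- `U_l` is abelian -/
theorem UL_le_cen (hd : Dj p q) : (UL p : Subgroup (Sy n F)) ≤ Subgroup.centralizer ((UL p : Subgroup (Sy n F)) : Set (Sy n F)) := by
  intro A hA
  rw [Subgroup.mem_centralizer_iff]
  intro C hC
  exact IsUL.comm (hyp hd) (mem_UL_iff.1 hC) (mem_UL_iff.1 hA)

theorem UL_el (hd : Dj p q) : IsElementaryAbelian 2 (UL p : Subgroup (Sy n F)) := by
  refine ⟨⟨⟨fun a b => Subtype.ext ?_⟩⟩, fun a ha => ?_⟩
  · exact IsUL.comm (hyp hd) (mem_UL_iff.1 a.2) (mem_UL_iff.1 b.2)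
  · rw [pow_two]
    exact IsUL.sq (hyp hd) (mem_UL_iff.1 ha)

end groups

section std

variable [Finite F] (hn : 3 ≤ n)

theorem mem_X12_iff {A : Sy n F} : A ∈ X12 hn ↔
    ∃ t : F, A = ul (be n F (Sum.inl (c0 hn))) (t • be n F (Sum.inl (c1 hn))) 0 := by
  have h0 : ∀ t : F, B (t • be n F (Sum.inl (c1 hn))) (be n F (Sum.inl (c0 hn))) = 0 := by
    intro t
    rw [sympForm_smul_left, fs (be n F (Sum.inl (c1 hn))), (hyp (F := F) (dj_ll (c01 hn))).pq, mul_zero]
  rw [mem_X12]
  refine exists_congr fun t => ?_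
  have e : zz hn t 0 = ul (be n F (Sum.inl (c0 hn))) (t • be n F (Sum.inl (c1 hn))) 0 := by
    apply rext
    intro v
    rw [rho_zz, rho_ul (h0 t), form_be, sympForm_smul_right, form_be, smul_smul]
    simp only [neg_inl]
    simp only [zero_mul, add_zero]
    rw [mul_comm (v (Sum.inr (c0 hn)))]
    abel
  rw [e]

/-- elements of `Up` on the flag -/
theorem up_flag {A : Sy n F} (hA : A ∈ Up n F) : rho n F A (be n F (Sum.inl (c0 hn))) = be n F (Sum.inl (c0 hn)) ∧
    ∃ a : F, rho n F A (be n F (Sum.inl (c1 hn))) - be n F (Sum.inl (c1 hn)) = a • be n F (Sum.inl (c0 hn)) := by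
  constructor
  · have h1 := up_sub hA (i := 0) (v := be n F (Sum.inl (c0 hn))) (fl_be (c0 hn))
    exact sub_eq_zero.1 (fl_zero h1)
  · have h1 := up_sub hA (i := 1) (v := be n F (Sum.inl (c1 hn))) (fl_be (c1 hn))
    refine ⟨(rho n F A (be n F (Sum.inl (c1 hn))) - be n F (Sum.inl (c1 hn))) (Sum.inl (c0 hn)), ?_⟩
    ext k
    rw [Pi.smul_apply, smul_eq_mul, be_apply]
    rcases k with k | k
    · by_cases hk : k = c0 hn
      · subst hk; rw [if_pos rfl, mul_one]
      · have hk' : (Sum.inl k : Ix n) ≠ Sum.inl (c0 hn) := fun e => hk (Sum.inl_injective e)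
        rw [if_neg hk', mul_zero]
        apply h1.2 k
        by_contra hlt
        apply hk
        apply Fin.ext
        show k.1 = 0
        omega
    · rw [if_neg (by simp), mul_zero]
      exact h1.1 k

theorem QSL_le_Up : QSL (Sum.inl (c0 hn)) (Sum.inl (c1 hn)) ≤ Up n F := by
  intro A hA
  obtain ⟨h1, ⟨a, h2⟩, h3⟩ := hA
  -- the value on the flag
  have key : ∀ i : Fin n, rho n F A (be n F (Sum.inl i)) = be n F (Sum.inl i) ∨
      ∃ a b : F, c0 hn < i ∧ rho n F A (be n F (Sum.inl i)) = be n F (Sum.inl i) + a • be n F (Sum.inl (c0 hn)) +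
        b • be n F (Sum.inl (c1 hn)) ∧ (b ≠ 0 → c1 hn < i) := by
    intro i
    by_cases hi0 : i = c0 hn
    · left; rw [hi0]; exact h1
    have hlt : c0 hn < i := by
      show 0 < i.1
      by_contra h
      exact hi0 (Fin.ext (show i.1 = 0 by omega))
    by_cases hi1 : i = c1 hn
    · right
      refine ⟨a, 0, hlt, ?_, fun h => absurd rfl h⟩
      rw [hi1, zero_smul, add_zero, ← h2]; abel
    · right
      have hlt1 : c1 hn < i := by
        show 1 < i.1
        have g0 : i.1 ≠ 1 := fun e => hi1 (Fin.ext e)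
        have g1 : 0 < i.1 := hlt
        omega
      have hP : Prp (Sum.inl (c0 hn)) (Sum.inl (c1 hn)) (be n F (Sum.inl i)) := by
        constructor
        · rw [neg_inl, be_apply, if_neg (by simp)]
        · rw [neg_inl, be_apply, if_neg (by simp)]
      obtain ⟨c, d, hcd⟩ := h3 _ hP
      refine ⟨c, d, hlt, ?_, fun _ => hlt1⟩
      rw [add_assoc, ← hcd]; abel
  refine ⟨fun i => ?_, fun i j hij => ?_, fun i j => ?_⟩
  · rcases key i with h | ⟨c, d, hi, h, hd⟩
    · rw [h, be_apply, if_pos rfl]; rfl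
    · rw [h]
      have e1 : (Sum.inl i : Ix n) ≠ Sum.inl (c0 hn) := fun e => hi.ne' (Sum.inl_injective e)
      by_cases hd0 : d = 0
      · simp [be_apply, e1, hd0]
      · have e2 : (Sum.inl i : Ix n) ≠ Sum.inl (c1 hn) := fun e => (hd hd0).ne' (Sum.inl_injective e)
        simp [be_apply, e1, e2]
  · rcases key i with h | ⟨c, d, hi, h, hd⟩
    · rw [h, be_apply, if_neg]
      intro h
      exact hij.ne' (Sum.inl_injective h)
    · rw [h]
      have e0 : (Sum.inl j : Ix n) ≠ Sum.inl i := fun e => hij.ne' (Sum.inl_injective e)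
      have e1 : (Sum.inl j : Ix n) ≠ Sum.inl (c0 hn) := fun e => (hi.trans hij).ne' (Sum.inl_injective e)
      by_cases hd0 : d = 0
      · simp [be_apply, e0, e1, hd0]
      · have e2 : (Sum.inl j : Ix n) ≠ Sum.inl (c1 hn) := fun e => ((hd hd0).trans hij).ne' (Sum.inl_injective e)
        simp [be_apply, e0, e1, e2]
  · rcases key i with h | ⟨c, d, hi, h, hd⟩
    · rw [h, be_apply, if_neg (by simp)]
    · rw [h]
      simp [be_apply]

/-- the lower central series of `Q_s U_l` -/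
theorem lcs : ⁅⁅(QSL (Sum.inl (c0 hn)) (Sum.inl (c1 hn)) : Subgroup (Sy n F)),
    (QSL (Sum.inl (c0 hn)) (Sum.inl (c1 hn)) : Subgroup (Sy n F))⁆,
    (QSL (Sum.inl (c0 hn)) (Sum.inl (c1 hn)) : Subgroup (Sy n F))⁆ = (X12 hn : Subgroup (Sy n F)) := by
  have hd : Dj (Sum.inl (c0 hn) : Ix n) (Sum.inl (c1 hn)) := dj_ll (c01 hn)
  apply le_antisymm
  · have h1 : ⁅(QSL (Sum.inl (c0 hn)) (Sum.inl (c1 hn)) : Subgroup (Sy n F)),
        (QSL (Sum.inl (c0 hn)) (Sum.inl (c1 hn)) : Subgroup (Sy n F))⁆ ≤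
        UL (Sum.inl (c0 hn)) ⊓ QS (Sum.inl (c0 hn)) (Sum.inl (c1 hn)) := by
      rw [Subgroup.commutator_le]
      intro A hA C hC
      rw [commutatorElement_def, mem_J_iff]
      exact IsQ.comm_isUL (hyp hd) (mem_QSL_iff.1 hA) (mem_QSL_iff.1 hC)
    refine (Subgroup.commutator_mono h1 le_rfl).trans ?_
    rw [Subgroup.commutator_le]
    intro A hA C hC
    rw [commutatorElement_def, mem_X12_iff]
    rw [mem_J_iff] at hA
    exact IsQ.comm_mem (hyp hd) hA.1 hA.2 (mem_QSL_iff.1 hC)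
  · rintro A ⟨a, rfl⟩
    -- the third index
    have h02 : c0 hn ≠ c2 hn := by simp [c0, c2]
    have h12 : c1 hn ≠ c2 hn := by simp [c1, c2]
    have d01 : Dj (Sum.inl (c0 hn) : Ix n) (Sum.inr (c1 hn)) := dj_lr (c01 hn)
    have d02 : Dj (Sum.inl (c0 hn) : Ix n) (Sum.inl (c2 hn)) := dj_ll h02
    have d12 : Dj (Sum.inl (c1 hn) : Ix n) (Sum.inl (c2 hn)) := dj_ll h12
    have key : ∀ (i j k : Ix n) (hij : Dj i j) (hjk : Dj j k) (hik : Dj i k) (a b : F),
        ⁅sx i j a, sx (neg j) k b⁆ = sx i k (a * b) := by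
      intro i j k hij hjk hik a b
      rw [commutatorElement_def, sx_rel hij hjk hik]
      group
    -- membership of the root elements
    have m1 : sx (Sum.inl (c0 hn)) (Sum.inr (c1 hn)) (1 : F) ∈ QSL (Sum.inl (c0 hn)) (Sum.inl (c1 hn)) := by
      apply UL_le_QSL hd
      rw [mem_UL]
      constructor
      · rw [rho_sx d01]
        simp [be_apply, neg_inl, neg_inr, (c01 hn).symm]
      · intro v hv
        refine ⟨v (Sum.inl (c1 hn)), ?_⟩
        rw [rho_sx d01, hv, neg_inr]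
        simp
    have m2 : ∀ b : F, sx (Sum.inl (c1 hn)) (Sum.inl (c2 hn)) b ∈ QSL (Sum.inl (c0 hn)) (Sum.inl (c1 hn)) := by
      intro b
      apply QS_le_QSL
      rw [mem_QS]
      refine ⟨?_, ?_, fun v hv => ⟨0, b * v (Sum.inr (c2 hn)), ?_⟩⟩
      · rw [rho_sx d12]
        simp [be_apply]
      · rw [rho_sx d12]
        simp [be_apply]
      · have := hv.2
        rw [neg_inl] at this
        rw [rho_sx d12, neg_inl, neg_inl, this]
        simp
    have m3 : ∀ b : F, sx (Sum.inr (c2 hn)) (Sum.inl (c1 hn)) b ∈ QSL (Sum.inl (c0 hn)) (Sum.inl (c1 hn)) := by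
      intro b
      have d : Dj (Sum.inr (c2 hn) : Ix n) (Sum.inl (c1 hn)) := (dj_lr h12).symm
      apply QS_le_QSL
      rw [mem_QS]
      refine ⟨?_, ?_, fun v hv => ⟨0, b * v (Sum.inl (c2 hn)), ?_⟩⟩
      · rw [rho_sx d]
        simp [be_apply, h02.symm]
      · rw [rho_sx d]
        simp [be_apply, h12.symm]
      · have := hv.2
        rw [neg_inl] at this
        rw [rho_sx d, neg_inl, neg_inr, this]
        simp
    have e1 := key (Sum.inl (c0 hn)) (Sum.inr (c1 hn)) (Sum.inl (c2 hn)) d01 (dj_lr h12.symm).symm d02 1 1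
    have e2 := key (Sum.inl (c0 hn)) (Sum.inl (c2 hn)) (Sum.inl (c1 hn)) d02 d12.symm hd 1 a
    rw [neg_inr] at e1
    rw [neg_inl, one_mul] at e2
    have e3 : zz hn a 0 = sx (Sum.inl (c0 hn)) (Sum.inl (c1 hn)) a := by rw [zz, sy_zero, mul_one]
    rw [e3, ← e2]
    refine Subgroup.commutator_mem_commutator ?_ (m3 a)
    rw [← mul_one (1 : F), ← e1]
    exact Subgroup.commutator_mem_commutator m1 (m2 1)

end std

/-! ### counting -/

section card

variable [Finite F] {p q : Ix n}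

omit [CharP F 2] in
/-- the orthogonal space -/
def orth (D : Submodule F (Ix n → F)) : Submodule F (Ix n → F) :=
  LinearMap.BilinForm.orthogonal (sympBilin n F) D

theorem mem_orth {D : Submodule F (Ix n → F)} {x : Ix n → F} : x ∈ orth D ↔ ∀ d ∈ D, B d x = 0 := Iff.rfl

omit [CharP F 2] in
theorem card_orth (D : Submodule F (Ix n → F)) : Nat.card D * Nat.card (orth D) = Nat.card (Ix n → F) := by
  have h1 : Module.finrank F D + Module.finrank F (orth D) = Module.finrank F (Ix n → F) := by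
    have h := LinearMap.BilinForm.finrank_orthogonal (sympBilin_nondegenerate (F := F) (m := n)) D
    have h2 := Submodule.finrank_le D
    have h3 : Module.finrank F (orth D) = Module.finrank F (Ix n → F) - Module.finrank F D := h
    omega
  rw [Module.natCard_eq_pow_finrank (K := F) (V := D), Module.natCard_eq_pow_finrank (K := F) (V := orth D),
    Module.natCard_eq_pow_finrank (K := F) (V := Ix n → F), ← pow_add, h1]

/-- a map constant only on the cosets of `K` -/
theorem card_le_of_fiber {V K : Subgroup (Sy n F)} (hK : K ≤ V) {X : Type*} [Finite X] (f : V → X)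
    (h : ∀ v v' : V, f v = f v' → (v : Sy n F)⁻¹ * v' ∈ K) : Nat.card V ≤ Nat.card K * Nat.card X := by
  have h1 : Nat.card V = Nat.card (V ⧸ K.subgroupOf V) * Nat.card (K.subgroupOf V) :=
    Subgroup.card_eq_card_quotient_mul_card_subgroup _
  have h2 : Nat.card (K.subgroupOf V) = Nat.card K := Nat.card_congr (Subgroup.subgroupOfEquivOfLe hK).toEquiv
  have h3 : Nat.card (V ⧸ K.subgroupOf V) ≤ Nat.card X := by
    apply Nat.card_le_card_of_injective (fun c : V ⧸ K.subgroupOf V => f (Quotient.out c))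
    intro c d hcd
    have h4 := h _ _ hcd
    have h5 : (Quotient.out c)⁻¹ * Quotient.out d ∈ K.subgroupOf V := Subgroup.mem_subgroupOf.2 h4
    have h6 := QuotientGroup.eq.2 h5
    rwa [QuotientGroup.out_eq', QuotientGroup.out_eq'] at h6
  rw [h1, h2, mul_comm]
  exact Nat.mul_le_mul_left _ h3

theorem bb_inj (hd : Dj p q) {A C : Sy n F} (hA : A ∈ UL p) (hC : C ∈ UL p)
    (h : bb (be n F (neg p)) A = bb (be n F (neg p)) C) : A = C := by
  rw [(mem_UL_iff.1 hA).eq (hyp hd), (mem_UL_iff.1 hC).eq (hyp hd), h]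

/-- `|p^⊥| ≤ |U_l|` -/
theorem card_perp_le (hd : Dj p q) : Nat.card (orth (Submodule.span F {be n F p})) ≤ Nat.card (UL p : Subgroup (Sy n F)) := by
  have h0 : ∀ b : orth (Submodule.span F {be n F p}), B (b : Ix n → F) (be n F p) = 0 := fun b => by
    rw [fs]
    exact mem_orth.1 b.2 _ (Submodule.mem_span_singleton_self _)
  have H := hyp (F := F) hd
  apply Nat.card_le_card_of_injective (fun b : orth (Submodule.span F {be n F p}) =>
    (⟨ul (be n F p) b (B (be n F (neg p)) b), mem_UL_iff.2 (isUL_ul (h0 b) _)⟩ : (UL p : Subgroup (Sy n F))))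
  intro b b' hbb
  have h1 := congrArg (fun A : (UL p : Subgroup (Sy n F)) => bb (be n F (neg p)) A.1) hbb
  simp only [bb_ul H (h0 _), CharTwo.add_self_eq_zero, zero_smul, add_zero] at h1
  exact Subtype.ext h1

/-- **off** -/
theorem off (hd : Dj p q) (V : Subgroup (Sy n F)) (hV : V ≤ QSL p q) :
    Nat.card V * Nat.card ↥(UL p ⊓ Subgroup.centralizer (V : Set (Sy n F))) ≤
      Nat.card (UL p : Subgroup (Sy n F)) *
        Nat.card ↥(V ⊓ Subgroup.centralizer ((UL p : Subgroup (Sy n F)) : Set (Sy n F))) := by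
  have H := hyp (F := F) hd
  by_cases hc : V ≤ Subgroup.centralizer ((UL p : Subgroup (Sy n F)) : Set (Sy n F))
  · rw [inf_eq_left.2 hc, mul_comm]
    exact Nat.mul_le_mul_right _ (Subgroup.card_le_of_le inf_le_left)
  obtain ⟨v0, hv0, hv0'⟩ := SetLike.not_le_iff_exists.1 hc
  have hv0n : ¬ IsUL (be n F p) v0 := fun h => hv0' (UL_le_cen hd (mem_UL_iff.2 h))
  set w1 : Ix n → F := be n F (neg p) with hw1
  set w2 : Ix n → F := be n F (neg q) with hw2
  have hw2p : B w2 (be n F p) = 0 := by rw [fs]; exact H.pw2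
  have hw2q : B w2 (be n F q) = 1 := by rw [fs]; exact H.qw2
  let D : Submodule F (Ix n → F) :=
    Submodule.span F ({be n F p, be n F q} ∪ (fun A : Sy n F => rho n F A w2 - w2) '' (V : Set (Sy n F)))
  have hDp : be n F p ∈ D := Submodule.subset_span (Or.inl (Or.inl rfl))
  have hDv : ∀ A ∈ V, rho n F A w2 - w2 ∈ D := fun A hA => Submodule.subset_span (Or.inr ⟨A, hA, rfl⟩)
  -- (a)
  have ha : Nat.card ↥(UL p ⊓ Subgroup.centralizer (V : Set (Sy n F))) ≤ Nat.card (orth D) := by
    have key : ∀ u ∈ UL p ⊓ Subgroup.centralizer (V : Set (Sy n F)), bb w1 u ∈ orth D := by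
      rintro u ⟨hu, huC⟩
      have hu' := mem_UL_iff.1 hu
      have hb := bb_perp (w1 := w1) hu'.1
      have hfix : ∀ A ∈ V, ∃ a : F, rho n F A (bb w1 u) - bb w1 u = a • be n F p := by
        intro A hA
        have h1 : A * u = u * A := Subgroup.mem_centralizer_iff.1 huC A hA
        have h2 := hu'.eq H
        rw [h2] at h1
        exact (comm_ul_iff H (mem_QSL_iff.1 (hV hA)).1 hb _).1 h1
      have hbq : B (bb w1 u) (be n F q) = 0 := by
        by_contra hne
        exact hv0n ((mem_QSL_iff.1 (hV hv0)).isUL_of_fix hb hne (hfix v0 hv0))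
      have hle : D ≤ orth (Submodule.span F {bb w1 u}) := by
        refine Submodule.span_le.2 ?_
        rintro y ((rfl | rfl) | ⟨A, hA, rfl⟩)
        all_goals
          rw [SetLike.mem_coe, mem_orth]
          intro d hd'
          obtain ⟨c, rfl⟩ := Submodule.mem_span_singleton.1 hd'
          rw [sympForm_smul_left]
        · rw [hb, mul_zero]
        · rw [hbq, mul_zero]
        · have hAQ := mem_QSL_iff.1 (hV hA)
          obtain ⟨a, ha⟩ := hfix A hA
          have h3 := hAQ.coord H hb hbq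
          rw [ha, sympForm_smul_left, H.pw2, mul_zero] at h3
          show c * B (bb w1 u) (rho n F A w2 - w2) = 0
          rw [← h3, mul_zero]
      rw [mem_orth]
      intro d hd'
      rw [fs]
      exact mem_orth.1 (hle hd') _ (Submodule.mem_span_singleton_self _)
    apply Nat.card_le_card_of_injective (fun u : ↥(UL p ⊓ Subgroup.centralizer (V : Set (Sy n F))) =>
      (⟨bb w1 u, key u u.2⟩ : orth D))
    intro u u' huu
    exact Subtype.ext (bb_inj hd u.2.1 u'.2.1 (congrArg Subtype.val huu))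
  -- (b)
  let D0 : Submodule F (Ix n → F) := D ⊓ orth (Submodule.span F {w1})
  have hw1p : B w1 (be n F p) = 1 := by rw [fs]; exact H.pw1
  have hb : Nat.card V ≤
      Nat.card ↥(V ⊓ Subgroup.centralizer ((UL p : Subgroup (Sy n F)) : Set (Sy n F))) * Nat.card D0 := by
    have hm : ∀ A ∈ V, (rho n F A w2 - w2) - B w1 (rho n F A w2 - w2) • be n F p ∈ D0 := by
      intro A hA
      refine ⟨Submodule.sub_mem _ (hDv A hA) (Submodule.smul_mem _ _ hDp), ?_⟩
      rw [SetLike.mem_coe, mem_orth]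
      intro d hd'
      obtain ⟨c, rfl⟩ := Submodule.mem_span_singleton.1 hd'
      rw [sympForm_smul_left, sympForm_sub_right, sympForm_smul_right, hw1p, mul_one, sub_self, mul_zero]
    refine card_le_of_fiber inf_le_left (fun A : V => (⟨_, hm A A.2⟩ : D0)) fun v v' hvv => ?_
    refine Subgroup.mem_inf.2 ⟨V.mul_mem (V.inv_mem v.2) v'.2, ?_⟩
    have h1 : (rho n F (v : Sy n F) w2 - w2) - B w1 (rho n F (v : Sy n F) w2 - w2) • be n F p =
        (rho n F (v' : Sy n F) w2 - w2) - B w1 (rho n F (v' : Sy n F) w2 - w2) • be n F p :=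
      congrArg Subtype.val hvv
    have hQ : (v : Sy n F)⁻¹ * v' ∈ QSL p q := mul_mem (inv_mem (hV v.2)) (hV v'.2)
    apply UL_le_cen hd
    rw [mem_UL_iff]
    refine (mem_QSL_iff.1 hQ).isUL_of_fix (b := w2) hw2p (by rw [hw2q]; exact one_ne_zero)
      ⟨B w1 (rho n F (v' : Sy n F) w2 - w2) - B w1 (rho n F (v : Sy n F) w2 - w2), ?_⟩
    have h2 : rho n F (v' : Sy n F) w2 = rho n F (v : Sy n F) w2 +
        (B w1 (rho n F (v' : Sy n F) w2 - w2) - B w1 (rho n F (v : Sy n F) w2 - w2)) • be n F p := by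
      rw [sub_smul]
      rw [← sub_eq_zero] at h1 ⊢
      rw [← neg_eq_zero, ← h1]
      abel
    have hvi : (v : Sy n F)⁻¹ ∈ QSL p q := inv_mem (hV v.2)
    have h3 : rho n F (v : Sy n F)⁻¹ (be n F p) = be n F p := (mem_QSL_iff.1 hvi).1
    rw [rmul]
    conv_lhs => rw [h2, radd, rsmul, rinv', h3]
    abel
  -- (c)
  have hcc : Nat.card F * Nat.card D0 ≤ Nat.card D := by
    rw [← Nat.card_prod]
    apply Nat.card_le_card_of_injective (fun x : F × D0 =>
      (⟨x.1 • be n F p + x.2, Submodule.add_mem _ (Submodule.smul_mem _ _ hDp) x.2.2.1⟩ : D))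
    rintro ⟨a, d⟩ ⟨a', d'⟩ h
    have h1 : a • be n F p + (d : Ix n → F) = a' • be n F p + d' := congrArg Subtype.val h
    have h2 : ∀ e : D0, B w1 (e : Ix n → F) = 0 := fun e =>
      mem_orth.1 e.2.2 _ (Submodule.mem_span_singleton_self _)
    have h3 := congrArg (fun y => B w1 y) h1
    simp only [sympForm_add_right, sympForm_smul_right, hw1p, h2, mul_one, add_zero] at h3
    subst h3
    exact Prod.ext rfl (Subtype.ext (add_left_cancel h1))
  -- the orders
  have h1 := card_orth (F := F) (n := n) D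
  have h2 := card_orth (F := F) (n := n) (Submodule.span F {be n F p})
  have h3 : Nat.card (Submodule.span F {be n F p}) = Nat.card F := by
    rw [Module.natCard_eq_pow_finrank (K := F), finrank_span_singleton (be_ne p), pow_one]
  have h4 := card_perp_le (F := F) hd
  have hq : 0 < Nat.card F := Nat.card_pos
  apply Nat.le_of_mul_le_mul_left _ hq
  set K := Nat.card ↥(V ⊓ Subgroup.centralizer ((UL p : Subgroup (Sy n F)) : Set (Sy n F)))
  calc Nat.card F * (Nat.card V * Nat.card ↥(UL p ⊓ Subgroup.centralizer (V : Set (Sy n F)))) ≤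
      Nat.card F * ((K * Nat.card D0) * Nat.card (orth D)) :=
        Nat.mul_le_mul_left _ (Nat.mul_le_mul hb ha)
    _ = K * ((Nat.card F * Nat.card D0) * Nat.card (orth D)) := by ring
    _ ≤ K * (Nat.card D * Nat.card (orth D)) := Nat.mul_le_mul_left _ (Nat.mul_le_mul_right _ hcc)
    _ = K * (Nat.card F * Nat.card (orth (Submodule.span F {be n F p}))) := by rw [h1, ← h2, h3]
    _ ≤ K * (Nat.card F * Nat.card (UL p : Subgroup (Sy n F))) :=
        Nat.mul_le_mul_left _ (Nat.mul_le_mul_left _ h4)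
    _ = _ := by ring

end card

/-! ### the structure -/

section final

variable [Finite F] (hn : 3 ≤ n)

/-- `|X_s| |J| ≤ |U_l|` -/
theorem card_J : Nat.card (X12 hn : Subgroup (Sy n F)) *
    Nat.card ↥(UL (Sum.inl (c0 hn)) ⊓ QS (Sum.inl (c0 hn)) (Sum.inl (c1 hn)) : Subgroup (Sy n F)) ≤
      Nat.card (UL (Sum.inl (c0 hn)) : Subgroup (Sy n F)) := by
  have hd : Dj (Sum.inl (c0 hn) : Ix n) (Sum.inl (c1 hn)) := dj_ll (c01 hn)
  have H := hyp (F := F) hd
  have h1 : Nat.card (X12 hn : Subgroup (Sy n F)) ≤ Nat.card F := by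
    apply Nat.card_le_card_of_surjective (fun t : F => (⟨zz hn t 0, t, rfl⟩ : (X12 hn : Subgroup (Sy n F))))
    rintro ⟨A, t, rfl⟩
    exact ⟨t, rfl⟩
  refine (Nat.mul_le_mul_right _ h1).trans ?_
  rw [← Nat.card_prod]
  have h0 : ∀ a : F, B (a • be n F (neg (Sum.inl (c1 hn)))) (be n F (Sum.inl (c0 hn))) = 0 := fun a => by
    rw [sympForm_smul_left, fs, H.pw2, mul_zero]
  apply Nat.card_le_card_of_injective (fun x : F ×
    ↥(UL (Sum.inl (c0 hn)) ⊓ QS (Sum.inl (c0 hn)) (Sum.inl (c1 hn)) : Subgroup (Sy n F)) =>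
    (⟨ul (be n F (Sum.inl (c0 hn))) (x.1 • be n F (neg (Sum.inl (c1 hn)))) 0 * x.2.1,
      mul_mem (mem_UL_iff.2 (isUL_ul (h0 _) _)) x.2.2.1⟩ : (UL (Sum.inl (c0 hn)) : Subgroup (Sy n F))))
  rintro ⟨a, j⟩ ⟨a', j'⟩ h
  have h2 : ul (be n F (Sum.inl (c0 hn))) (a • be n F (neg (Sum.inl (c1 hn)))) 0 * j.1 =
      ul (be n F (Sum.inl (c0 hn))) (a' • be n F (neg (Sum.inl (c1 hn)))) 0 * j'.1 := congrArg Subtype.val h
  have h3 : ∀ (a : F) (j : ↥(UL (Sum.inl (c0 hn)) ⊓ QS (Sum.inl (c0 hn)) (Sum.inl (c1 hn)) : Subgroup (Sy n F))),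
      rho n F (ul (be n F (Sum.inl (c0 hn))) (a • be n F (neg (Sum.inl (c1 hn)))) 0 * j.1) (be n F (Sum.inl (c1 hn))) =
        be n F (Sum.inl (c1 hn)) + a • be n F (Sum.inl (c0 hn)) := by
    intro a j
    rw [rmul, (mem_J_iff.1 j.2).2, rho_ul (h0 a), sympForm_smul_right, H.qw2, fs (be n F (Sum.inl (c1 hn))), H.pq,
      zero_smul, mul_zero, add_zero, add_zero, mul_one]
  have h4 := h3 a j
  rw [h2, h3 a' j'] at h4
  have h5 := add_left_cancel h4
  have h6 : a' = a := by
    have := congrArg (fun y => B y (be n F (neg (Sum.inl (c0 hn))))) h5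
    simpa only [sympForm_smul_left, H.pw1, mul_one] using this
  subst h6
  exact Prod.ext rfl (Subtype.ext (mul_left_cancel h2))

/-- **All fields of `Offer` for `Sp_2n(q)`.** -/
theorem offer : Offer (Up n F) (QSL (Sum.inl (c0 hn)) (Sum.inl (c1 hn))) (UL (Sum.inl (c0 hn)))
    (UL (Sum.inl (c0 hn)) ⊓ QS (Sum.inl (c0 hn)) (Sum.inl (c1 hn))) (X12 hn)
    (US (Sum.inl (c0 hn)) (Sum.inl (c1 hn)) : Subgroup (Sy n F)) := by
  have hd : Dj (Sum.inl (c0 hn) : Ix n) (Sum.inl (c1 hn)) := dj_ll (c01 hn)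
  have H := hyp (F := F) hd
  refine ⟨UL_el hd, (UL_le_QSL hd).trans (QSL_le_Up hn), QSL_le_Up hn, ?_, inf_le_left, ?_, ?_, card_J hn, ?_, ?_, ?_⟩
  · -- `Q_s U_l` normalises `U_l`
    intro A hA
    have hA' := mem_QSL_iff.1 hA
    rw [Subgroup.mem_normalizer_iff]
    have key : ∀ A ∈ QSL (Sum.inl (c0 hn)) (Sum.inl (c1 hn)), ∀ u ∈ (UL (Sum.inl (c0 hn)) : Subgroup (Sy n F)),
        A * u * A⁻¹ ∈ UL (Sum.inl (c0 hn)) := by
      intro A hA u hu
      have hA' := mem_QSL_iff.1 hA
      have hu' := mem_UL_iff.1 hu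
      have hb := bb_perp (w1 := be n F (neg (Sum.inl (c0 hn)))) hu'.1
      have h1 : B (rho n F A (bb (be n F (neg (Sum.inl (c0 hn)))) u)) (be n F (Sum.inl (c0 hn))) = 0 := by
        rw [IsQ.form_p hA'.1, hb]
      rw [hu'.eq H, conj_ul hb _ hA'.1]
      exact mem_UL_iff.2 (isUL_ul h1 _)
    intro u
    refine ⟨key A hA u, fun h => ?_⟩
    have h2 := key A⁻¹ (inv_mem hA) _ h
    have e : A⁻¹ * (A * u * A⁻¹) * A⁻¹⁻¹ = u := by group
    rwa [e] at h2
  · -- comm
    intro j hj v hv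
    rw [mem_J_iff] at hj
    rw [mem_X12_iff]
    exact IsQ.comm_mem H hj.1 hj.2 (mem_QSL_iff.1 hv)
  · -- fix
    intro v hv hvn u hu huv
    have hv' := mem_QSL_iff.1 hv
    have hu' := mem_UL_iff.1 hu
    have hb := bb_perp (w1 := be n F (neg (Sum.inl (c0 hn)))) hu'.1
    have hnot : ¬ IsUL (be n F (Sum.inl (c0 hn))) v := fun h => hvn (UL_le_cen hd (mem_UL_iff.2 h))
    rw [mem_J_iff]
    refine ⟨hu', ?_⟩
    have hbq : B (bb (be n F (neg (Sum.inl (c0 hn)))) u) (be n F (Sum.inl (c1 hn))) = 0 := by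
      by_contra hne
      refine hnot (hv'.isUL_of_fix hb hne ?_)
      rw [hu'.eq H] at huv
      exact (comm_ul_iff H hv'.1 hb _).1 huv.symm
    rw [hu'.eq H, rho_ul hb, fs (be n F (Sum.inl (c1 hn))) (be n F (Sum.inl (c0 hn))), H.pq,
      fs (be n F (Sum.inl (c1 hn))), hbq, zero_smul, mul_zero, add_zero, add_zero, zero_smul, add_zero]
  · -- off
    exact fun V hV => off hd V hV
  · -- triv
    rintro s hs v ⟨hv, hvJ⟩
    apply UL_le_cen hd
    rw [mem_UL_iff]
    exact IsQ.triv H (mem_QSL_iff.1 hv) (fun b h1 h2 => of_cJ hd hv hvJ b h1 h2) (up_flag hn hs).1 (up_flag hn hs).2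
  · -- fin
    intro V hV hVel hVn hS x hx
    obtain ⟨hxQ, hxJ⟩ := hV hx
    have hxQ' := mem_QSL_iff.1 hxQ
    rw [mem_US]
    intro v hv
    have hv1 := (prp_iff.1 hv).1
    have hv2 := (prp_iff.1 hv).2
    have hsx : ∀ s, IsQ (be n F (Sum.inl (c0 hn))) (be n F (Sum.inl (c1 hn))) s →
        ∃ u, IsUL (be n F (Sum.inl (c0 hn))) u ∧ u⁻¹ * s * x = x * (u⁻¹ * s) := by
      intro s hs
      obtain ⟨u, hu, hus⟩ := hS s (QSL_le_Up hn (mem_QSL_iff.2 hs))
      exact ⟨u, mem_UL_iff.1 hu, (Subgroup.mem_centralizer_iff.1 hus x hx).symm⟩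
    by_cases hxU : IsUL (be n F (Sum.inl (c0 hn))) x
    · -- `x ∈ U_l` is centralised by `Q_s`
      have hb := bb_perp (w1 := be n F (neg (Sum.inl (c0 hn)))) hxU.1
      have hE := IsQ.inE_of_fix H (b := bb (be n F (neg (Sum.inl (c0 hn)))) x) fun s hs => by
        obtain ⟨u, hu, hus⟩ := hsx s hs
        have h1 : s * x = x * s := by
          have h2 : u * x = x * u := hu.comm H hxU
          calc s * x = u * (u⁻¹ * s * x) := by group
            _ = u * (x * (u⁻¹ * s)) := by rw [hus]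
            _ = (u * x) * (u⁻¹ * s) := by group
            _ = x * s := by rw [h2]; group
        rw [hxU.eq H] at h1
        exact (comm_ul_iff H hs.1 hb _).1 h1
      rw [hxU.eq H, rho_ul hb, hv1, fs v, hE.2 v hv1 hv2, mul_zero, add_zero, zero_smul, zero_smul, add_zero,
        add_zero]
    · have hxx : x * x = 1 := by
        have := hVel.2 x hx
        rwa [pow_two] at this
      exact IsQ.fin_core H hxQ' (fun b h1 h2 => of_cJ hd hxQ hxJ b h1 h2) hxx hxU hsx hv1 hv2

end final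

end Cfsg.Agent.Omega.All.SpN.Off

end
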